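import Groth.Agent.H14DM.OpenImage
import Groth.Agent.H14Gerbe.GenericFlat
import Groth.Agent.H14Gerbe.DenseGerbe
import Groth.Agent.H14AlgSt.InertiaEtale
import Groth.Agent.H14AlgSt.CoverCriterion
import Groth.Agent.H13AlgSp.DenseFiniteScheme
import Groth.Agent.S2080
import Groth.Agent.S10544

/-!
# Generic finiteness of the inertia of a Deligne--Mumford stack
-/

set_option autoImplicit false
set_option backward.isDefEq.respectTransparency false
set_option backward.isDefEq.respectTransparency.types false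

universe u

open CategoryTheory Opposite AlgebraicGeometry CategoryTheory.Limits TopologicalSpace

noncomputable section

namespace Groth.Agent.H14DM

open H14Fib H14Stk H14AlgSt

variable {S : Scheme.{u}}

/-- An affine unramified morphism to a reduced scheme is generically finite etale. -/
lemma exists_open_finite_etale {X Y : Scheme.{u}} (f : X ⟶ Y) [IsReduced Y] [Nonempty Y]
    [IsAffineHom f] [LocallyOfFiniteType f] [FormallyUnramified f] :
    ∃ O : Y.Opens, (∃ y, y ∈ O) ∧ IsFinite (f ∣_ O) ∧ Etale (f ∣_ O) := by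
  obtain ⟨y⟩ := ‹Nonempty Y›
  obtain ⟨η₀, hη⟩ := QuasiSober.sober (isIrreducible_irreducibleComponent (x := y))
    isClosed_irreducibleComponent
  have hcl : closure {η₀} ∈ irreducibleComponents (Y : Type u) :=
    (show closure {η₀} = irreducibleComponent y from hη) ▸
      irreducibleComponent_mem_irreducibleComponents y
  have : LocallyQuasiFinite f := locallyQuasiFinite_of_unramified f
  have hfin : (f.base ⁻¹' {η₀}).Finite := f.finite_preimage_singleton η₀
  obtain ⟨O₁, -, hO₁, hf₁⟩ := (Groth.Agent.S2080.result f η₀ hcl).1 hfin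
  obtain ⟨O₂, hd, hfl, hfp⟩ := H7Flat.exists_dense_flatLFP f
  obtain ⟨z, hz₁, hz₂⟩ := hd.inter_open_nonempty _ O₁.2 ⟨η₀, hO₁⟩
  let O := O₁ ⊓ O₂
  have sq : IsPullback (f ⁻¹ᵁ O).ι (f ∣_ O) f O.ι := (isPullback_morphismRestrict f O).flip
  have : LocallyOfFiniteType (f ∣_ O) := MorphismProperty.of_isPullback sq ‹_›
  have : FormallyUnramified (f ∣_ O) := MorphismProperty.of_isPullback sq ‹_›
  have sq₂ : IsPullback (f ⁻¹ᵁ O₂).ι (f ∣_ O₂) f O₂.ι := (isPullback_morphismRestrict f O₂).flip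
  obtain ⟨l, hl₁, hl₂⟩ := sq₂.exists_lift (f ⁻¹ᵁ O).ι ((f ∣_ O) ≫ Y.homOfLE inf_le_right)
    (by rw [Category.assoc, Scheme.homOfLE_ι, morphismRestrict_ι])
  have sq₃ : IsPullback l (f ∣_ O) (f ∣_ O₂) (Y.homOfLE inf_le_right) :=
    IsPullback.of_right (by rw [hl₁, Scheme.homOfLE_ι]; exact sq) hl₂ sq₂
  have : Flat (f ∣_ O) := MorphismProperty.of_isPullback sq₃ hfl
  have : LocallyOfFinitePresentation (f ∣_ O) := MorphismProperty.of_isPullback sq₃ hfp
  exact ⟨O, ⟨z, hz₁, hz₂⟩, H13AlgSp.DenseFinite.isFinite_restrict_le f inf_le_left hf₁,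
    Etale.of_formallyUnramified_of_flat _⟩

variable {𝒳 𝒴 : AlgSt.Cat S} {P : MorphismProperty (AlgSp.Sp S)}

/-- Representing data over an open piece of a chart. -/
lemma repData_restrict {V V' : Over S} (j : V' ⟶ V) {f : 𝒳 ⥤ᵇ 𝒴}
    (y : FibCat.overCat V ⥤ᵇ 𝒴) {G : AlgSp.Space S} {e : AlgSt.ofSp G.obj ⥤ᵇ FibCat.fp y f}
    (he : FibCat.IsEquivOver e) {π : G.obj ⟶ (AlgSp.yon S).obj V}
    (k : BasedFunctor.comp e (FibCat.fpFst y f) ≅
      BasedFunctor.comp (AlgSt.ofSpMap π) (AlgSt.toOverCat V))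
    {H : AlgSp.Space S} {g : H.obj ⟶ G.obj} {σ : H.obj ⟶ (AlgSp.yon S).obj V'}
    (sq : IsPullback g σ π ((AlgSp.yon S).map j)) (hσ : P σ) :
    RepData P (FibCat.fpFst (BasedFunctor.comp (AlgSt.overMap j) y) f) := by
  let jp := ((AlgSp.yon S).map j).hom
  let y' : FibCat.overCat V' ⥤ᵇ Stk.ofPsh ((AlgSp.yon S).obj V).obj :=
    BasedFunctor.comp (AlgSt.ofOverCat V') (Stk.ofPshMap jp)
  have sqp : IsPullback σ.hom g.hom (testMap y') π.hom := by
    rw [testMap_ofOverCat]
    exact ((sq.map (sheafToPresheaf (AlgSp.J S) (Type (u + 1))))).flip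
  obtain ⟨E, hE, ⟨iE⟩⟩ := exists_comparison π.hom y' sqp
  let e₁ : BasedFunctor.comp y' (AlgSt.toOverCat V) ≅
      BasedFunctor.comp (BasedFunctor.id (FibCat.overCat V')) (AlgSt.overMap j) :=
    mkIso (fun s => Iso.refl _)
      (fun {_ _} φ => (Category.comp_id _).trans ((Category.id_comp _).trans
        (Over.OverMorphism.ext rfl)).symm)
      (fun s => IsHomLift.id rfl)
  obtain ⟨⟨_, _⟩, -⟩ := (isEquivOver_iff _).1 (toOverCat_isEquivOver V)
  obtain ⟨⟨_, _⟩, hes⟩ := (isEquivOver_iff _).1 he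
  let M : FibCat.fp y' (Stk.ofPshMap π.hom) ⥤ᵇ
      FibCat.fp (AlgSt.overMap j) (FibCat.fpFst y f) :=
    fpMap (BasedFunctor.id _) e (AlgSt.toOverCat V) e₁ k.symm
  have hM : FibCat.IsEquivOver M := fpMap_isEquivOver _ _ _ _ _ (essSurjOver_id _) hes
  let M' := BasedFunctor.comp (BasedFunctor.comp E M) (pasteBase y f (AlgSt.overMap j))
  have hM' : FibCat.IsEquivOver M' :=
    isEquivOver_comp (isEquivOver_comp hE hM) (pasteBase_isEquivOver _ _ _)
  refine ⟨H, M', hM', ?_⟩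
  let T := BasedFunctor.comp M' (FibCat.fpFst (BasedFunctor.comp (AlgSt.overMap j) y) f)
  have kT : T ≅ BasedFunctor.comp (AlgSt.ofSpMap σ) (AlgSt.toOverCat V') := iE
  have : AlgSt.spMapOfOver T = σ := (spMapOfOver_congr kT).trans (by
    rw [spMapOfOver_comp, spMapOfOver_toOverCat, Category.comp_id])
  change P (AlgSt.spMapOfOver T)
  rw [this]
  exact hσ

local notation "FE" => AlgSp.IsFiniteMor ⊓ AlgSp.IsEtaleMor

lemma baseStable_finiteEtale : BaseStable (S := S) FE := fun _ _ _ _ hX hY hX' hY' a b a' b' sq h =>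
  ⟨H13AlgSp.isFiniteMor_iff.2
      (baseStable_repWith @IsFinite hX hY hX' hY' a b a' b' sq (H13AlgSp.isFiniteMor_iff.1 h.1)),
    H12AlgSp.isEtaleMor_of_locP_etale hY' (baseStable_locP H12AlgSp.etLocal_etale hX hY hX' hY'
      a b a' b' sq (H12AlgSp.locP_etale_of_isEtaleMor h.2))⟩

lemma localFppf_finiteEtale : AlgSp.IsLocalOnBase (AlgSp.IsFppfCover (S := S)) FE :=
  fun _ _ Yi g hY hYi hg _ f hX Xi p q hXi sq =>
    ⟨fun h i => ⟨((localFppf_of_fpqc (S10540.result S)) Yi g hY hYi hg f hX Xi p q hXi sq).1 h.1 i,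
      ((localFppf_of_fpqc (S10544.result S)) Yi g hY hYi hg f hX Xi p q hXi sq).1 h.2 i⟩,
    fun h => ⟨((localFppf_of_fpqc (S10540.result S)) Yi g hY hYi hg f hX Xi p q hXi sq).2
        fun i => (h i).1,
      ((localFppf_of_fpqc (S10544.result S)) Yi g hY hYi hg f hX Xi p q hXi sq).2
        fun i => (h i).2⟩⟩

variable {K : Precoverage Scheme.{u}}

/-- A reduced Deligne--Mumford stack with affine diagonal has generically finite etale inertia. -/
theorem exists_openImm_inertia_finite_etale (h𝒳 : AlgSt.IsDM K 𝒳)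
    (hΔ : AlgSt.RepByAlgSpWith AlgSp.IsAffineMor (FibCat.diag (FibCat.toSelf 𝒳)))
    (hred : AlgSt.SmoothLocally (fun T => IsReduced T) 𝒳) [Nonempty (AlgSt.Points 𝒳)] :
    ∃ (𝒰 : AlgSt.Cat S) (j : 𝒰 ⥤ᵇ 𝒳), AlgSt.IsOpenImm j ∧ Nonempty (AlgSt.Points 𝒰) ∧
      AlgSt.RepByAlgSpWith FE (FibCat.inertiaToBase (FibCat.toSelf 𝒰)) := by
  have hu := isDMOver_of_isDM h𝒳
  obtain ⟨hX, U, x, hx', hxs⟩ := h𝒳
  have hg := hX.isStack.1
  have hx : AlgSt.RepByAlgSpWith (AlgSp.LocP @Etale) x :=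
    repWith_mono (fun _ _ _ h => H12AlgSp.locP_etale_of_isEtaleMor h) hx'
  have hxf : AlgSt.RepByAlgSpWith (AlgSp.LocP @Flat) x := repWith_mono (fun _ _ _ h =>
    H12AlgSp.locP_mono (fun _ _ g (_ : Etale g) => (inferInstance : Flat g)) h) hx
  have hxp : AlgSt.RepByAlgSpWith (AlgSp.LocP @LocallyOfFinitePresentation) x :=
    repWith_mono (fun _ _ _ h => H12AlgSp.locP_mono
      (fun _ _ g (_ : Etale g) => (inferInstance : LocallyOfFinitePresentation g)) h) hx
  have : IsReduced U.left := hred U x (repWith_mono (fun _ _ _ h =>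
    H12AlgSp.locP_mono (fun _ _ g (_ : Etale g) => (inferInstance : Smooth g)) h) hx)
  let I := FibCat.inertiaToBase (FibCat.toSelf 𝒳)
  let Δ := FibCat.diag (FibCat.toSelf 𝒳)
  have hIa : AlgSt.RepByAlgSpWith AlgSp.IsAffineMor I :=
    (repWith_inertiaToBase_iff hg _).2 (repWith_fpFst Δ hΔ)
  have hIu : AlgSt.RepByAlgSpWith
      (AlgSp.LocP (@LocallyOfFiniteType ⊓ @FormallyUnramified)) I :=
    (repWith_inertiaToBase_iff hg _).2 (repWith_fpFst Δ hu)
  -- a nonempty affine open of the atlas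
  obtain ⟨p₀⟩ := ‹Nonempty (AlgSt.Points 𝒳)›
  obtain ⟨a₀, -⟩ := ofChart_surjective hg hxs p₀
  obtain ⟨_, ⟨V₀, hV₀, rfl⟩, ha₀, -⟩ := U.left.isBasis_affineOpens.exists_subset_of_mem_open
    (Set.mem_univ a₀) isOpen_univ
  let V := subU V₀
  have : IsAffine V.left := hV₀
  have : IsReduced V.left := isReduced_of_isOpenImmersion (Scheme.Opens.ι V₀)
  have : Nonempty V.left := ⟨⟨a₀, ha₀⟩⟩
  let y := BasedFunctor.comp (AlgSt.overMap (subUIncl V₀)) x
  obtain ⟨G, e, he, hπa⟩ := hIa V y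
  let π := AlgSt.spMapOfOver (BasedFunctor.comp e (FibCat.fpFst y I))
  obtain ⟨k⟩ := spMapOfOver_eq (BasedFunctor.comp e (FibCat.fpFst y I))
  have hπu : AlgSp.LocP (@LocallyOfFiniteType ⊓ @FormallyUnramified) π :=
    prop_of_repData (sourceIsoInv_locP _) (hIu V y) he k
  obtain ⟨W, i, fst, sqW, hW⟩ := hπa (Z := V) hV₀ (𝟙 _)
  have hVs := AlgSp.IsAlgSpace.yon_obj V
  have hi := AlgSp.locP_yon_map
    (H12AlgSp.locP_of_isPullback etLocal_unramified sqW G.property hVs hVs hπu)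
  have : LocallyOfFiniteType i.left := hi.1
  have : FormallyUnramified i.left := hi.2
  have : IsAffine W.left := hW
  obtain ⟨O, ⟨o, ho⟩, hOf, hOe⟩ := exists_open_finite_etale i.left
  -- the base change to the open
  let j := subUIncl O
  have sqS := IsPullback.of_hasPullback i j
  have hs : IsFinite (pullback.snd i j).left ∧ Etale (pullback.snd i j).left := by
    have sq1 : IsPullback (pullback.fst i j).left (pullback.snd i j).left i.left O.ι :=
      sqS.map (Over.forget S)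
    have sq2 : IsPullback (i.left ⁻¹ᵁ O).ι (i.left ∣_ O) i.left O.ι :=
      (isPullback_morphismRestrict i.left O).flip
    rw [← sq1.isoIsPullback_hom_snd _ _ sq2]
    exact ⟨(MorphismProperty.cancel_left_of_respectsIso @IsFinite _ _).2 hOf,
      (MorphismProperty.cancel_left_of_respectsIso @Etale _ _).2 hOe⟩
  have hsF : FE ((AlgSp.yon S).map (pullback.snd i j)) :=
    ⟨H13AlgSp.isFiniteMor_iff.2 ((AlgSp.repWith_yon_map_iff _ _).2 hs.1),
      (AlgSp.isEtaleMor_yon_map_iff _).2 hs.2⟩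
  have sqG : IsPullback ((AlgSp.yon S).map (pullback.fst i j) ≫ fst)
      ((AlgSp.yon S).map (pullback.snd i j)) π ((AlgSp.yon S).map j) := by
    have := (sqS.map (AlgSp.yon S)).paste_horiz sqW
    rwa [Category.comp_id] at this
  let y' := BasedFunctor.comp (AlgSt.overMap j) y
  obtain ⟨G', e', he', hσ'⟩ := repData_restrict (P := FE) j y he k
    (H := ⟨_, AlgSp.IsAlgSpace.yon_obj _⟩) sqG hsF
  have hy' : AlgSt.RepByAlgSpWith FE (FibCat.fpFst y' I) :=
    repWith_fpFst_of_data baseStable_finiteEtale y' he' hσ'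
  -- the open substack
  let q : subU O ⟶ U := j ≫ subUIncl V₀
  have : IsOpenImmersion q.left :=
    inferInstanceAs (IsOpenImmersion (O.ι ≫ (Scheme.Opens.ι V₀)))
  let Opts : Set (AlgSt.Points 𝒳) := AlgSt.Points.ofChart x '' Set.range q.left
  have hOpts : IsOpen Opts := isOpenMap_ofChart hg hxf hxp _ q.left.isOpenEmbedding.isOpen_range
  let incl := AlgSt.subIncl 𝒳 (ptPred Opts)
  refine ⟨AlgSt.fullSub 𝒳 (ptPred Opts), incl, isOpenImm_ptPred hX hOpts, ?_, ?_⟩
  · obtain ⟨w, -⟩ : AlgSt.Points.ofChart x (q.left ⟨o, ho⟩) ∈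
        Set.range (AlgSt.Points.map incl) := range_ptPred.symm ▸ ⟨_, ⟨_, rfl⟩, rfl⟩
    exact ⟨w⟩
  · let yq := BasedFunctor.comp (AlgSt.overMap q) x
    have hm : ∀ a, ptPred Opts (yq.obj a) := fun a =>
      (ptPred_chart_iff hg x _).2 fun t => ⟨_, ⟨a.hom.left t, rfl⟩, rfl⟩
    let w := liftSub yq hm
    have hf : AlgSt.RepByAlgSp1 (FibCat.fpFst incl I) :=
      repByAlgSp1_of_with (repWith_fpFst incl hIa)
    let c : BasedFunctor.comp w incl ≅ y' := liftSubIso yq hm ≪≫
      (post (FibCat.overCat (subU O)) x).mapIso (overMapCompIso j (subUIncl V₀)).symm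
    have h := repWith_of_cover localFppf_finiteEtale baseStable_finiteEtale.sourceIsoInv hf w
      (exists_lift_image hg hxf hxp q rfl hm) (fun C z => ?_)
    · exact (repWith_equiv_comp_iff
        (H14Gerbe.subInertia_isEquivOver (Q := ptPred Opts) ptPred_of_hom)
        (f := FibCat.fpFst incl I)).1 h
    · have h0 : RepData FE (FibCat.fpFst (BasedFunctor.comp z y') I) :=
        RepData.of_equiv FE (pasteBase_isEquivOver y' I z) (Iso.refl _) (hy' C z)
      have h1 : RepData FE (FibCat.fpFst (BasedFunctor.comp (BasedFunctor.comp z w) incl) I) :=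
        repData_congr ((Stk.restr z _).mapIso c).symm h0
      exact RepData.of_equiv' FE (pasteBase_isEquivOver w (FibCat.fpFst incl I) z) (Iso.refl _)
        (RepData.of_equiv' FE (pasteBase_isEquivOver incl I (BasedFunctor.comp z w)) (Iso.refl _) h1)

end Groth.Agent.H14DM
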