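import Groth.Agent.H14AlgSt.Substack
import Groth.Agent.H14AlgSt.DMDiag

/-!
# Open substacks given by open sets of points, for any topology
-/

set_option autoImplicit false
set_option backward.isDefEq.respectTransparency false
set_option backward.isDefEq.respectTransparency.types false

universe u

open CategoryTheory Opposite AlgebraicGeometry CategoryTheory.Limits

noncomputable section

namespace Groth.Agent.H14DM

open H14Fib H14Stk H14AlgSt

variable {S : Scheme.{u}} {𝒳 : AlgSt.Cat S} {K : Precoverage Scheme.{u}}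

/-- All charts of an algebraic stack are continuous on points. -/
lemma continuous_chart (h : AlgSt.IsAlgStack K 𝒳) {V : Over S}
    (z : FibCat.overCat V ⥤ᵇ 𝒳) : Continuous (AlgSt.Points.ofChart z) := by
  refine ⟨fun W hW => ?_⟩
  obtain ⟨U, x, hx, hxs⟩ := h.atlas
  have hWx : IsOpen (AlgSt.Points.ofChart x ⁻¹' W) := hW U x hx
  obtain ⟨A, c, u, hc1, hc2, h3, h4⟩ := exists_fp_atlas h.isStack.1
    (repWith_mono (fun _ _ _ h => H12AlgSp.locP_mono
      (fun _ _ g (_ : Smooth g) => (inferInstance : Flat g)) h) hx)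
    (repWith_mono (fun _ _ _ h => H12AlgSp.locP_mono
      (fun _ _ g (_ : Smooth g) => (inferInstance : LocallyOfFinitePresentation g)) h) hx) z
  have hs : Function.Surjective c.left := fun t => by
    obtain ⟨a, ha⟩ := ofChart_surjective h.isStack.1 hxs (AlgSt.Points.ofChart z t)
    obtain ⟨s, hs, -⟩ := h4 t a ha.symm
    exact ⟨s, hs⟩
  rw [← Set.image_preimage_eq (AlgSt.Points.ofChart z ⁻¹' W) hs]
  refine c.left.isOpenMap _ ?_
  have : c.left ⁻¹' (AlgSt.Points.ofChart z ⁻¹' W) =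
      u.left ⁻¹' (AlgSt.Points.ofChart x ⁻¹' W) := by
    ext s
    simp only [Set.mem_preimage, h3 s]
  rw [this]
  exact hWx.preimage u.left.continuous

variable {O : Set (AlgSt.Points 𝒳)}

/-- The full subcategory on an open set of points is an open substack. -/
lemma isOpenImm_ptPred (h : AlgSt.IsAlgStack K 𝒳) (hO : IsOpen O) :
    AlgSt.IsOpenImm (AlgSt.subIncl 𝒳 (ptPred O)) := by
  intro U x
  let W : U.left.Opens := ⟨AlgSt.Points.ofChart x ⁻¹' O, hO.preimage (continuous_chart h x)⟩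
  have hmem : ∀ s : (FibCat.overCat (subU W)).obj,
      ptPred O (x.obj ((AlgSt.overMap (subUIncl W)).obj s)) := fun s =>
    (ptPred_chart_iff h.isStack.1 x _).2 fun t => by
      change AlgSt.Points.ofChart x (W.ι (s.hom.left t)) ∈ O
      exact (W.range_ι.le ⟨_, rfl⟩ :)
  let T : FibCat.overCat (subU W) ⥤ᵇ FibCat.fp x (AlgSt.subIncl 𝒳 (ptPred O)) :=
    FibCat.fpLift (AlgSt.overMap (subUIncl W))
      (liftSub (BasedFunctor.comp (AlgSt.overMap (subUIncl W)) x) hmem) (liftSubIso _ _).symm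
  have hT : FibCat.IsEquivOver T := by
    have : Mono (subUIncl W) := (Over.forget S).mono_of_mono_map (inferInstanceAs (Mono W.ι))
    refine (isEquivOver_iff _).2 ⟨⟨⟨fun {a b} f => ?_⟩, ⟨fun {a b} f g e => ?_⟩⟩, fun z => ?_⟩
    · let φ₁ : (Over.map (subUIncl W)).obj a ⟶ (Over.map (subUIncl W)).obj b := f.hom.fst
      let φ : a ⟶ b := Over.homMk φ₁.left ((cancel_mono (subUIncl W)).1
        ((Category.assoc _ _ _).trans (Over.w φ₁)))
      refine ⟨φ, fp_hom_ext (Over.OverMorphism.ext rfl) ?_⟩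
      apply ObjectProperty.hom_ext
      have hw := f.hom.w
      change x.map φ₁ ≫ 𝟙 _ = 𝟙 _ ≫ _ at hw
      rw [Category.comp_id, Category.id_comp] at hw
      exact hw
    · exact Over.OverMorphism.ext (congrArg (fun t => t.hom.fst.left) e)
    · have hs : ∀ t : z.obj.fst.left.left, z.obj.fst.hom.left t ∈ W :=
        (ptPred_chart_iff h.isStack.1 x z.obj.fst).1
          (ptPred_of_hom z.obj.iso.hom z.obj.snd.property)
      obtain ⟨g', hg'⟩ := subUIncl_factor W z.obj.fst.hom hs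
      let a : (FibCat.overCat (subU W)).obj := Over.mk g'
      let e₁ : (Over.map (subUIncl W)).obj a ≅ z.obj.fst :=
        Over.isoMk (Iso.refl _) ((Category.id_comp _).trans hg'.symm)
      let e₂ : x.obj ((Over.map (subUIncl W)).obj a) ≅ z.obj.snd.obj :=
        x.toFunctor.mapIso e₁ ≪≫ z.obj.iso
      refine ⟨a, fpIsoMk e₁ (ObjectProperty.isoMk _ e₂) ?_, ?_⟩
      · exact (Category.id_comp _).symm
      · rw [fp_isHomLift_iff]
        exact IsHomLift.of_fac' _ _ _ rfl rfl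
          ((Category.id_comp _).trans (Category.comp_id _)).symm
  refine ⟨⟨(AlgSp.yon S).obj (subU W), AlgSp.IsAlgSpace.yon_obj _⟩,
    BasedFunctor.comp (AlgSt.toOverCat _) T,
    isEquivOver_comp (toOverCat_isEquivOver _) hT, ?_⟩
  have h : AlgSt.spMapOfOver (BasedFunctor.comp (BasedFunctor.comp (AlgSt.toOverCat (subU W)) T)
      (FibCat.fpFst x (AlgSt.subIncl 𝒳 (ptPred O)))) = (AlgSp.yon S).map (subUIncl W) := by
    change AlgSt.spMapOfOver (BasedFunctor.comp (AlgSt.toOverCat (subU W))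
      (AlgSt.overMap (subUIncl W))) = _
    rw [spMapOfOver_overMap, spMapOfOver_toOverCat, Category.id_comp]
  rw [h]
  exact (AlgSp.repWith_yon_map_iff _ _).2 (inferInstanceAs (IsOpenImmersion W.ι))

/-- Flat local atlases of fibre products of two charts, with the comparison isomorphism. -/
lemma exists_fp_atlas_iso (h𝒳 : FibCat.IsFibGrpd 𝒳.p) {U V : Over S}
    {x : FibCat.overCat U ⥤ᵇ 𝒳} (h1 : AlgSt.RepByAlgSpWith (AlgSp.LocP @Flat) x)
    (h2 : AlgSt.RepByAlgSpWith (AlgSp.LocP @LocallyOfFinitePresentation) x)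
    (z : FibCat.overCat V ⥤ᵇ 𝒳) :
    ∃ (A : Over S) (c : A ⟶ V) (v : A ⟶ U), Flat c.left ∧ LocallyOfFinitePresentation c.left ∧
      Nonempty (BasedFunctor.comp (AlgSt.overMap v) x ≅ BasedFunctor.comp (AlgSt.overMap c) z) ∧
      ∀ t a, AlgSt.Points.ofChart z t = AlgSt.Points.ofChart x a →
        ∃ s, c.left s = t ∧ v.left s = a := by
  obtain ⟨F, e, he, hσf⟩ := h1 V z
  let q := BasedFunctor.comp e (FibCat.fpFst z x)
  let σ := AlgSt.spMapOfOver q
  obtain ⟨k⟩ := spMapOfOver_eq q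
  have hσl : AlgSp.LocP @LocallyOfFinitePresentation σ :=
    prop_of_repData (sourceIsoInv_locP _) (h2 V z) he k
  obtain ⟨A, p, hpe, hps⟩ := F.property.atlas
  obtain ⟨c, hc⟩ := (AlgSp.yon S).map_surjective (p ≫ σ)
  have key : ∀ {Q : MorphismProperty Scheme.{u}}, H12AlgSp.EtLocal Q → AlgSp.LocP Q σ → Q c.left :=
    fun {Q} hQ h => AlgSp.locP_yon_map (hc ▸ H12AlgSp.locP_comp hQ (AlgSp.IsAlgSpace.yon_obj A)
      F.property (AlgSp.IsAlgSpace.yon_obj V) (H12AlgSp.locP_mono hQ.etale_le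
        (H12AlgSp.locP_of_repWith H12AlgSp.etLocal_etale hpe)) h)
  let a := BasedFunctor.comp (BasedFunctor.comp (AlgSt.ofOverCat A) (AlgSt.ofSpMap p)) e
  have hU := (isFibSetoid_of_rep (repByAlgSp_overCat U)).1
  have hV := (isFibSetoid_of_rep (repByAlgSp_overCat V)).1
  have hF := fp_fibGrpd (F := z) (G := x) hV hU h𝒳
  have ha := surjective_of_repWith hF ((repWith_comp_equiv_iff he).2
    ((repWith_equiv_comp_iff (ofOverCat_isEquivOver A)).1 (repWith_surjective_of_repWith p hps)))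
  let m : BasedFunctor.comp (BasedFunctor.comp (AlgSt.ofOverCat A) (AlgSt.ofSpMap (p ≫ σ)))
      (AlgSt.toOverCat V) ≅ AlgSt.overMap c := by
    rw [← hc]
    exact mkIso (fun s => Iso.refl _)
      (fun {_ _} φ => (Category.comp_id _).trans ((Category.id_comp _).trans
        (Over.OverMorphism.ext rfl)).symm)
      (fun s => IsHomLift.id rfl)
  let i₁ : BasedFunctor.comp a (FibCat.fpFst z x) ≅ AlgSt.overMap c :=
    (Stk.restr (BasedFunctor.comp (AlgSt.ofOverCat A) (AlgSt.ofSpMap p)) _).mapIso k ≪≫ m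
  obtain ⟨v, ⟨i₂⟩⟩ := exists_overMap_iso (BasedFunctor.comp a (FibCat.fpSnd z x))
  refine ⟨A, c, v, key H12AlgSp.etLocal_flat hσf, key H12AlgSp.etLocal_lfp hσl,
    ⟨(post (FibCat.overCat A) x).mapIso i₂.symm ≪≫
      (Stk.restr a _).mapIso (FibCat.fpIso z x).symm ≪≫
      (post (FibCat.overCat A) z).mapIso i₁⟩, fun t b h => ?_⟩
  rw [ofChart_eq_map z, ofChart_eq_map x] at h
  obtain ⟨w, hw1, hw2⟩ := exists_points_fp hV hU h𝒳 h
  obtain ⟨s, rfl⟩ := ha w
  refine ⟨chartPoint s, ?_, ?_⟩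
  · rw [← chartPoint_overMap, ← points_map_iso i₁, points_map_comp, hw1, chartPoint_ofChart]
  · rw [← chartPoint_overMap, ← points_map_iso i₂, points_map_comp, hw2, chartPoint_ofChart]

/-- An open piece of a flat chart covers the open substack of its image, fppf locally. -/
lemma exists_lift_image (h𝒳 : FibCat.IsFibGrpd 𝒳.p) {U V : Over S}
    {x : FibCat.overCat U ⥤ᵇ 𝒳} (h1 : AlgSt.RepByAlgSpWith (AlgSp.LocP @Flat) x)
    (h2 : AlgSt.RepByAlgSpWith (AlgSp.LocP @LocallyOfFinitePresentation) x)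
    (q : V ⟶ U) [IsOpenImmersion q.left]
    (hO : O = AlgSt.Points.ofChart x '' Set.range q.left)
    (hm : ∀ a, ptPred O ((BasedFunctor.comp (AlgSt.overMap q) x).obj a))
    (C : Over S) (z : FibCat.overCat C ⥤ᵇ AlgSt.fullSub 𝒳 (ptPred O)) :
    ∃ (ι : Type u) (D : ι → Over S) (c : ∀ i, D i ⟶ C),
      (∀ i, Flat (c i).left) ∧ (∀ i, LocallyOfFinitePresentation (c i).left) ∧
      (∀ t : C.left, ∃ i, t ∈ Set.range (c i).left) ∧
      ∀ i, ∃ v : FibCat.overCat (D i) ⥤ᵇ FibCat.overCat V,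
        Nonempty (BasedFunctor.comp v (liftSub (BasedFunctor.comp (AlgSt.overMap q) x) hm) ≅
          BasedFunctor.comp (AlgSt.overMap (c i)) z) := by
  let i := AlgSt.subIncl 𝒳 (ptPred O)
  let z' := BasedFunctor.comp z i
  obtain ⟨A, c, v, hc1, hc2, ⟨k⟩, h4⟩ := exists_fp_atlas_iso h𝒳 h1 h2 z'
  let W : A.left.Opens := v.left ⁻¹ᵁ q.left.opensRange
  have hr : Set.range (subUIncl W ≫ v).left ⊆ Set.range q.left := by
    rintro _ ⟨t, rfl⟩
    have ht : W.ι t ∈ W := W.range_ι.le ⟨t, rfl⟩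
    exact ht
  let l : subU W ⟶ V := Over.homMk (IsOpenImmersion.lift q.left (subUIncl W ≫ v).left hr) (by
    rw [← Over.w q, ← Category.assoc, IsOpenImmersion.lift_fac, Over.w])
  have hl : l ≫ q = subUIncl W ≫ v := Over.OverMorphism.ext (IsOpenImmersion.lift_fac _ _ hr)
  refine ⟨PUnit.{u+1}, fun _ => subU W, fun _ => subUIncl W ≫ c, fun _ => ?_, fun _ => ?_,
    fun t => ?_, fun _ => ⟨AlgSt.overMap l, ?_⟩⟩
  · have := hc1
    exact inferInstanceAs (Flat (W.ι ≫ c.left))
  · have := hc2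
    exact inferInstanceAs (LocallyOfFinitePresentation (W.ι ≫ c.left))
  · have hz : AlgSt.Points.ofChart z' t ∈ O := (ptPred_chart_iff h𝒳 z' (topObj C)).1
      (z.obj (topObj C)).property t
    rw [hO] at hz
    obtain ⟨a, ⟨b, rfl⟩, ha⟩ := hz
    obtain ⟨s, rfl, hs⟩ := h4 t (q.left b) ha.symm
    have hsW : s ∈ W := ⟨b, hs.symm⟩
    exact ⟨PUnit.unit, ⟨s, hsW⟩, rfl⟩
  · have : (post (FibCat.overCat (subU W)) i).Full := post_full i
    have : (post (FibCat.overCat (subU W)) i).Faithful := post_faithful i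
    let X' := post (FibCat.overCat (subU W)) x
    exact ⟨(post (FibCat.overCat (subU W)) i).preimageIso
      ((Stk.restr (AlgSt.overMap l) _).mapIso (liftSubIso _ hm) ≪≫
        X'.mapIso (overMapCompIso l q ≪≫ eqToIso (congrArg AlgSt.overMap hl) ≪≫
          (overMapCompIso (subUIncl W) v).symm) ≪≫
        (Stk.restr (AlgSt.overMap (subUIncl W)) _).mapIso k ≪≫
        (post (FibCat.overCat (subU W)) z').mapIso (overMapCompIso (subUIncl W) c))⟩

end Groth.Agent.H14DM
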